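import Cfsg.Agent.H703.Lat.Small
import Cfsg.Agent.H348.PPD.IndexTwo
import Cfsg.Agent.H684.CoverCount
import Cfsg.Agent.H611.CoverPrincipal
import Cfsg.Agent.H612.SectionR
import Cfsg.Agent.H618.Resid

/-!
# `k(B₀) = 5` and normal subgroups of index two

`card_normal` : if the principal `2`-block of `G` has five members, `4 ∣ |G|` and `N` is a normal subgroup of
index two, then the principal `2`-block of `N` has four members.
-/

set_option autoImplicit false
set_option linter.unusedSectionVars false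

open Cfsg Finset
open scoped ComplexConjugate

namespace Cfsg.Agent.H766.K5

open Cfsg.Agent.Characters.Core Cfsg.Agent.H703.Lat Cfsg.Agent.HKS.CosetTwo

universe u

variable {G : Type u} [Group G] [Finite G] {M : Ideal AlgInt}

theorem card_B0 : (B0 M G).card = Nat.card (principalBlock M G) := by
  have := finite_irr (G := G)
  rw [B0, ← Set.ncard_eq_toFinset_card _ (Set.toFinite _), Nat.card_coe_set_eq]

/-- the number of odd degree members -/
theorem card_odd (hM : IsPModular 2 M) (h4 : 4 ∣ Nat.card G) (hk : Nat.card (principalBlock M G) = 5) :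
    (S 2 (B0 M G)).card = 4 ∧ (T 2 (B0 M G)).card = 1 := by
  have hc : (B0 M G).card = 5 := card_B0.trans hk
  have h1 := four_dvd_card hM (good_principal (G := G) hM) h4
  have h2 : 0 < (S 2 (B0 M G)).card := Finset.card_pos.2 ⟨_, one_mem_S (p := 2) (one_mem_B0 hM)⟩
  have h3 : (T 2 (B0 M G)).card + (S 2 (B0 M G)).card = (B0 M G).card := by
    rw [S, T]
    exact Finset.card_filter_add_card_filter_not _
  omega

/-- the product with the sign character -/
noncomputable def sm {N : Subgroup G} (hN : N.index = 2) (χ : IrrCharacter G) : IrrCharacter G :=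
  ⟨(χ : G → ℂ) * sg hN, isIrr_mul_sg hN χ.2⟩

section

variable {N : Subgroup G} (hN : N.index = 2)

theorem sm_coe (χ : IrrCharacter G) : (sm hN χ : G → ℂ) = (χ : G → ℂ) * sg hN := rfl

theorem sm_sm (χ : IrrCharacter G) : sm hN (sm hN χ) = χ :=
  Subtype.ext (mul_sg_mul_sg hN _)

theorem sm_res (χ : IrrCharacter G) (n : N) : (sm hN χ : G → ℂ) n = (χ : G → ℂ) n := by
  rw [sm_coe, Pi.mul_apply, sg_of_mem hN n.2, mul_one]

theorem charDegree_sm (χ : IrrCharacter G) : charDegree (sm hN χ : G → ℂ) = charDegree (χ : G → ℂ) := by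
  unfold charDegree
  rw [show (sm hN χ : G → ℂ) 1 = (χ : G → ℂ) 1 from sm_res hN χ 1]

theorem eq_zero_of_fixed {χ : IrrCharacter G} (h : sm hN χ = χ) : ∀ g ∉ N, (χ : G → ℂ) g = 0 := by
  intro g hg
  have h1 := congrFun (congrArg Subtype.val h) g
  change (χ : G → ℂ) g * sg hN g = (χ : G → ℂ) g at h1
  rw [sg_of_notMem hN hg] at h1
  linear_combination (-1 / 2 : ℂ) * h1

theorem exists_ne_zero {χ : IrrCharacter G} (h : sm hN χ ≠ χ) : ∃ g, g ∉ N ∧ (χ : G → ℂ) g ≠ 0 := by
  by_contra hc
  push Not at hc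
  apply h
  apply Subtype.ext
  funext g
  rw [sm_coe, Pi.mul_apply]
  by_cases hg : g ∈ N
  · rw [sg_of_mem hN hg, mul_one]
  · rw [hc g hg, zero_mul]

/-- the scalar product on the subgroup of index two -/
theorem inner_res [Fintype G] [Fintype N] (χ ψ : IrrCharacter G) :
    classInner (fun n : N => (χ : G → ℂ) n) (fun n : N => (ψ : G → ℂ) n) =
      classInner (χ : G → ℂ) (ψ : G → ℂ) + classInner (χ : G → ℂ) (sm hN ψ : G → ℂ) := by
  classical
  rw [classInner_def, classInner_def, classInner_def, ← mul_add, ← Finset.sum_add_distrib]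
  have h1 : (Nat.card G : ℂ) = 2 * Nat.card N := by
    rw [card_eq hN]
    push_cast
    ring
  have hc0 : (Nat.card N : ℂ) ≠ 0 := by exact_mod_cast Nat.card_pos.ne'
  have h2 : ∑ g : G, ((χ : G → ℂ) g * conj ((ψ : G → ℂ) g) + (χ : G → ℂ) g * conj ((sm hN ψ : G → ℂ) g)) =
      2 * ∑ n : N, (χ : G → ℂ) n * conj ((ψ : G → ℂ) n) := by
    rw [Finset.mul_sum, ← Finset.sum_subtype (Finset.univ.filter (fun g : G => g ∈ N))
      (p := fun g => g ∈ N) (by simp) (fun g => 2 * ((χ : G → ℂ) g * conj ((ψ : G → ℂ) g))), Finset.sum_filter]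
    refine Finset.sum_congr rfl fun g _ => ?_
    rw [sm_coe, Pi.mul_apply, map_mul, conj_sg]
    by_cases hg : g ∈ N
    · rw [if_pos hg, sg_of_mem hN hg]; ring
    · rw [if_neg hg, sg_of_notMem hN hg]; ring
  rw [h2, h1]
  field_simp

theorem inner_eq_ite [Fintype G] (χ ψ : IrrCharacter G) [Decidable (χ = ψ)] :
    classInner (χ : G → ℂ) (ψ : G → ℂ) = if χ = ψ then 1 else 0 := by
  split_ifs with h
  · rw [h, classInner_irr_self ψ.2]
  · exact classInner_irr_ne χ.2 ψ.2 fun h1 => h (Subtype.ext h1)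

end

/-- **The normal subgroup of index two.** -/
theorem card_normal (hM : IsPModular 2 M) (h4 : 4 ∣ Nat.card G) (hk : Nat.card (principalBlock M G) = 5)
    (N : Subgroup G) [N.Normal] (hN : N.index = 2) : Nat.card (principalBlock M N) = 4 := by
  classical
  have := Fintype.ofFinite G
  have := Fintype.ofFinite N
  have : Fact (Nat.Prime 2) := ⟨Nat.prime_two⟩
  obtain ⟨hS, hT⟩ := card_odd hM h4 hk
  set B := B0 M G with hB
  have hsplit : ∀ χ, χ ∈ B → χ ∈ S 2 B ∨ χ ∈ T 2 B := by
    intro χ hχ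
    by_cases h : 2 ∣ charDegree (χ : G → ℂ)
    · exact Or.inr (Finset.mem_filter.2 ⟨hχ, h⟩)
    · exact Or.inl (mem_S.2 ⟨hχ, h⟩)
  -- the sign of odd degree characters
  have hne : ∀ χ, χ ∈ S 2 B → sm hN χ ≠ χ := by
    intro χ hχ h
    have h1 := H612.SectionR.even_of_mul_sg N hN χ (congrArg Subtype.val h)
    exact (mem_S.1 hχ).2 h1.two_dvd
  have hirr : ∀ χ : IrrCharacter G, sm hN χ ≠ χ → IsIrrCharacter N (fun n : N => (χ : G → ℂ) n) := by
    intro χ h
    obtain ⟨g, hg, h1⟩ := exists_ne_zero hN h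
    exact isIrr_restrict hN χ.2 hg h1
  have hsmB : ∀ χ, χ ∈ B → sm hN χ ∈ B := by
    intro χ hχ
    by_cases h : sm hN χ = χ
    · rwa [h]
    · rw [hB, mem_B0] at hχ ⊢
      have h1 : (⟨_, hirr χ h⟩ : IrrCharacter N) ∈ principalBlock M N := by
        refine H611.CoverPrincipal.mem_principalBlock_of_over 2 hM N χ _ ?_ hχ
        change classInner (fun n : N => (χ : G → ℂ) n) (fun n : N => (χ : G → ℂ) n) ≠ 0
        rw [classInner_irr_self (hirr χ h)]
        exact one_ne_zero
      exact H618.Resid.mem_principalBlock_of_extends hM N ⟨1, by rw [hN, pow_one]⟩ h1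
        fun n => sm_res hN χ n
  have hsmS : ∀ χ, χ ∈ S 2 B → sm hN χ ∈ S 2 B := by
    intro χ hχ
    rw [mem_S] at hχ ⊢
    rw [charDegree_sm]
    exact ⟨hsmB χ hχ.1, hχ.2⟩
  -- the even one
  obtain ⟨ζ, hζ⟩ := Finset.card_eq_one.1 hT
  have hζB : ζ ∈ B ∧ 2 ∣ charDegree (ζ : G → ℂ) := Finset.mem_filter.1 (show ζ ∈ T 2 B by
    rw [hζ]; exact Finset.mem_singleton_self _)
  have hζs : sm hN ζ = ζ := by
    have h1 : sm hN ζ ∈ T 2 B := Finset.mem_filter.2 ⟨hsmB ζ hζB.1, by rw [charDegree_sm]; exact hζB.2⟩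
    rw [hζ] at h1
    exact Finset.mem_singleton.1 h1
  -- the odd ones
  set e : IrrCharacter G := one G with he
  have heS : e ∈ S 2 B := one_mem_S (one_mem_B0 hM)
  have hcard2 : ({e, sm hN e} : Finset (IrrCharacter G)).card = 2 :=
    Finset.card_pair (hne e heS).symm
  obtain ⟨χ, hχS, hχ⟩ : ∃ χ ∈ S 2 B, χ ∉ ({e, sm hN e} : Finset (IrrCharacter G)) := by
    by_contra h
    push Not at h
    have := Finset.card_le_card (show S 2 B ⊆ {e, sm hN e} from h)
    omega
  have hχ1 : χ ≠ e := fun h => hχ (by rw [h]; simp)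
  have hχ2 : χ ≠ sm hN e := fun h => hχ (by rw [h]; simp)
  have hSeq : S 2 B = {e, sm hN e, χ, sm hN χ} := by
    symm
    refine Finset.eq_of_subset_of_card_le ?_ ?_
    · intro x hx
      simp only [Finset.mem_insert, Finset.mem_singleton] at hx
      rcases hx with rfl | rfl | rfl | rfl
      · exact heS
      · exact hsmS e heS
      · exact hχS
      · exact hsmS _ hχS
    · rw [hS, Finset.card_insert_of_notMem, Finset.card_insert_of_notMem, Finset.card_pair (hne χ hχS).symm]
      · simp only [Finset.mem_insert, Finset.mem_singleton, not_or]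
        refine ⟨hχ2.symm, fun h => hχ1 ?_⟩
        rw [← sm_sm hN χ, ← h, sm_sm]
      · simp only [Finset.mem_insert, Finset.mem_singleton, not_or]
        refine ⟨(hne e heS).symm, hχ1.symm, fun h => hχ2 ?_⟩
        rw [h, sm_sm]
  -- the restrictions
  let θ : IrrCharacter N := ⟨_, hirr χ (hne χ hχS)⟩
  obtain ⟨η, η', hηη, -, hη⟩ := H348.PPD.IndexTwo.split_of_vanish N hN ζ.2 (eq_zero_of_fixed hN hζs)
  let o : IrrCharacter N := one N
  have hζN : (fun n : N => (ζ : G → ℂ) n) = (η : N → ℂ) + (η' : N → ℂ) := funext hη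
  have hin : ∀ a : IrrCharacter N, classInner (fun n : N => (ζ : G → ℂ) n) (a : N → ℂ) =
      classInner (η : N → ℂ) (a : N → ℂ) + classInner (η' : N → ℂ) (a : N → ℂ) := by
    intro a
    rw [hζN, classInner_def, classInner_def, classInner_def, ← mul_add, ← Finset.sum_add_distrib]
    congr 1
    refine Finset.sum_congr rfl fun n _ => ?_
    rw [Pi.add_apply]
    ring
  have hζχ : ζ ∉ S 2 B := fun h => (mem_S.1 h).2 hζB.2
  have h0 : ∀ ψ : IrrCharacter G, ψ ∈ S 2 B → sm hN ψ ∈ S 2 B →
      classInner (fun n : N => (ζ : G → ℂ) n) (fun n : N => (ψ : G → ℂ) n) = 0 := by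
    intro ψ h1 h2
    rw [inner_res hN, inner_eq_ite, inner_eq_ite, if_neg, if_neg, add_zero]
    · intro h
      exact hζχ (h ▸ h2)
    · intro h
      exact hζχ (h ▸ h1)
  have key : ∀ a : IrrCharacter N, classInner (fun n : N => (ζ : G → ℂ) n) (a : N → ℂ) =
      (if η = a then 1 else 0) + (if η' = a then 1 else 0) := by
    intro a
    rw [hin, inner_eq_ite, inner_eq_ite]
  have hne0 : ∀ a : IrrCharacter N, classInner (fun n : N => (ζ : G → ℂ) n) (a : N → ℂ) = 0 →
      η ≠ a ∧ η' ≠ a := by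
    intro a ha
    rw [key] at ha
    constructor
    · intro h
      rw [if_pos h] at ha
      split_ifs at ha <;> norm_num at ha
    · intro h
      rw [if_pos h] at ha
      split_ifs at ha <;> norm_num at ha
  have ho := hne0 o (h0 e heS (hsmS e heS))
  have hθ := hne0 θ (h0 χ hχS (hsmS χ hχS))
  have hoθ : o ≠ θ := by
    intro h
    have h1 := inner_res hN χ e
    rw [inner_eq_ite, inner_eq_ite, if_neg hχ1, if_neg hχ2, add_zero] at h1
    have h2 : classInner (θ : N → ℂ) (o : N → ℂ) = 0 := h1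
    rw [h, classInner_irr_self θ.2] at h2
    exact one_ne_zero h2
  have hBN : principalBlock M N = {o, θ, η, η'} := by
    ext a
    simp only [Set.mem_insert_iff, Set.mem_singleton_iff]
    constructor
    · intro ha
      obtain ⟨ψ, hψ, h1⟩ := H684.CoverCount.exists_over hM N a ha
      have h2 := hsplit ψ (mem_B0.2 hψ)
      rw [hSeq, hζ] at h2
      simp only [Finset.mem_insert, Finset.mem_singleton] at h2
      have h3 : ∀ b : IrrCharacter N, (fun n : N => (ψ : G → ℂ) n) = (b : N → ℂ) → a = b := by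
        intro b hb
        rw [hb, inner_eq_ite] at h1
        by_contra hc
        exact h1 (if_neg fun h => hc h.symm)
      rcases h2 with (rfl | rfl | rfl | rfl) | rfl
      · exact Or.inl (h3 o rfl)
      · exact Or.inl (h3 o (funext fun n => sm_res hN _ n))
      · exact Or.inr (Or.inl (h3 θ rfl))
      · exact Or.inr (Or.inl (h3 θ (funext fun n => sm_res hN _ n)))
      · rw [key] at h1
        by_contra hc
        push Not at hc
        exact h1 (by rw [if_neg hc.2.2.1.symm, if_neg hc.2.2.2.symm, add_zero])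
    · have hover : ∀ (ψ : IrrCharacter G) (b : IrrCharacter N), ψ ∈ B →
          classInner (fun n : N => (ψ : G → ℂ) n) (b : N → ℂ) ≠ 0 → b ∈ principalBlock M N := by
        intro ψ b hψ hb
        exact H611.CoverPrincipal.mem_principalBlock_of_over 2 hM N ψ b hb (mem_B0.1 hψ)
      rintro (rfl | rfl | rfl | rfl)
      · refine hover e _ (mem_S.1 heS).1 ?_
        change classInner (o : N → ℂ) (o : N → ℂ) ≠ 0
        rw [classInner_irr_self o.2]
        exact one_ne_zero
      · refine hover χ _ (mem_S.1 hχS).1 ?_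
        change classInner (θ : N → ℂ) (θ : N → ℂ) ≠ 0
        rw [classInner_irr_self θ.2]
        exact one_ne_zero
      · refine hover ζ _ hζB.1 ?_
        rw [key, if_pos rfl]
        split_ifs <;> norm_num
      · refine hover ζ _ hζB.1 ?_
        rw [key, if_neg hηη, if_pos rfl]
        norm_num
  rw [hBN, Nat.card_coe_set_eq, Set.ncard_eq_toFinset_card']
  simp only [Set.toFinset_insert, Set.toFinset_singleton]
  rw [Finset.card_insert_of_notMem, Finset.card_insert_of_notMem, Finset.card_pair hηη]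
  · simp only [Finset.mem_insert, Finset.mem_singleton, not_or]
    exact ⟨hθ.1.symm, hθ.2.symm⟩
  · simp only [Finset.mem_insert, Finset.mem_singleton, not_or]
    exact ⟨hoθ, ho.1.symm, ho.2.symm⟩

end Cfsg.Agent.H766.K5
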