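import Mathlib
import Cfsg.Agent.H777.PGrp

/-!
# A `2`-group with a normal elementary abelian subgroup of index four

`card_le_two` : if the centralizer of every `x ∉ N` with `x * x ∈ N` has order less than `8`, then `|N| ≤ 2`.
-/

set_option autoImplicit false
set_option linter.unusedSectionVars false

namespace Cfsg.Agent.H766.K5

variable {P : Type*} [Group P] [Finite P]

open Subgroup

/-- a power whose square is in `N` -/
theorem exists_sq_mem (hP : IsPGroup 2 P) (N : Subgroup P) {x : P} (hx : x ∉ N) :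
    ∃ j : ℕ, x ^ 2 ^ j ∉ N ∧ x ^ 2 ^ j * x ^ 2 ^ j ∈ N := by
  classical
  have h1 : ∃ j : ℕ, x ^ 2 ^ j ∈ N := by
    obtain ⟨k, hk⟩ := hP x
    exact ⟨k, by rw [hk]; exact N.one_mem⟩
  have h2 := Nat.find_spec h1
  have h3 : Nat.find h1 ≠ 0 := by
    intro h
    rw [h, pow_zero, pow_one] at h2
    exact hx h2
  refine ⟨Nat.find h1 - 1, Nat.find_min h1 (by omega), ?_⟩
  rw [← pow_add, ← two_mul, ← pow_succ', Nat.sub_add_cancel (Nat.one_le_iff_ne_zero.2 h3)]
  exact h2

theorem card_le_two (hP : IsPGroup 2 P) (N : Subgroup P) [hN : N.Normal] (hel : ∀ x ∈ N, x * x = 1)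
    (hidx : N.index = 4) (hc : ∀ x : P, x ∉ N → x * x ∈ N → ¬ 8 ∣ Nat.card (centralizer ({x} : Set P))) :
    Nat.card N ≤ 2 := by
  classical
  have : Fact (Nat.Prime 2) := ⟨Nat.prime_two⟩
  have hinv : ∀ x ∈ N, x⁻¹ = x := fun x hx => inv_eq_of_mul_eq_one_right (hel x hx)
  have hcomm : ∀ a ∈ N, ∀ b ∈ N, a * b = b * a := by
    intro a ha b hb
    have h1 := hinv _ (N.mul_mem ha hb)
    rw [mul_inv_rev, hinv a ha, hinv b hb] at h1
    exact h1.symm
  -- the centralizer in `N`
  have hD : ∀ x : P, x ∉ N → x * x ∈ N → Nat.card (centralizer ({x} : Set P) ⊓ N : Subgroup P) ≤ 2 := by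
    intro x hxN hxx
    set C := centralizer ({x} : Set P) with hC
    obtain ⟨k, hk⟩ := (hP.to_subgroup C).exists_card_eq
    have hk3 : k < 3 := by
      by_contra h
      exact hc x hxN hxx (by rw [hk]; exact pow_dvd_pow 2 (by omega : 3 ≤ k))
    have hlt : Nat.card (C ⊓ N : Subgroup P) < Nat.card C := by
      refine Set.ncard_lt_ncard ?_ (Set.toFinite _)
      refine ⟨fun y hy => hy.1, fun h => hxN (h (show x ∈ (C : Set P) from ?_)).2⟩
      exact mem_centralizer_singleton_iff.2 rfl
    have hdvd : Nat.card (C ⊓ N : Subgroup P) ∣ Nat.card C := card_dvd_of_le inf_le_left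
    obtain ⟨l, hl, hl'⟩ := (Nat.dvd_prime_pow Nat.prime_two).1 (hk ▸ hdvd)
    rw [hl', hk] at hlt
    have hlk : l < k := (Nat.pow_lt_pow_iff_right (by norm_num)).1 hlt
    rw [hl']
    calc 2 ^ l ≤ 2 ^ 1 := Nat.pow_le_pow_right (by norm_num) (by omega)
      _ = 2 := by norm_num
  -- the commutator map
  have hle4 : ∀ x : P, x ∉ N → x * x ∈ N → Nat.card N ≤ 4 := by
    intro x hxN hxx
    let φ : N →* N :=
      { toFun := fun n => n * (MulAut.conjNormal x n)⁻¹
        map_one' := by simp
        map_mul' := fun a b => by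
          apply Subtype.ext
          have h1 := hcomm (b : P) b.2 ((MulAut.conjNormal x a : N) : P)⁻¹ (N.inv_mem (SetLike.coe_mem _))
          simp only [map_mul, mul_inv_rev, coe_mul, coe_inv]
          have h2 := hcomm ((MulAut.conjNormal x b : N) : P)⁻¹ (N.inv_mem (SetLike.coe_mem _))
            ((MulAut.conjNormal x a : N) : P)⁻¹ (N.inv_mem (SetLike.coe_mem _))
          rw [h2]
          calc (a : P) * b * (((MulAut.conjNormal x a : N) : P)⁻¹ * ((MulAut.conjNormal x b : N) : P)⁻¹)
              = a * (b * ((MulAut.conjNormal x a : N) : P)⁻¹) * ((MulAut.conjNormal x b : N) : P)⁻¹ := by group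
            _ = _ := by rw [h1]; group }
    have hker : Nat.card φ.ker ≤ 2 := by
      refine le_trans ?_ (hD x hxN hxx)
      refine Nat.card_le_card_of_injective (fun n : φ.ker => (⟨((n : N) : P), ?_, (n : N).2⟩ :
        (centralizer ({x} : Set P) ⊓ N : Subgroup P))) ?_
      · have h1 : (n : N) * (MulAut.conjNormal x (n : N))⁻¹ = 1 := n.2
        have h2 : (n : N) = MulAut.conjNormal x (n : N) := mul_inv_eq_one.1 h1
        have h3 := congrArg (Subtype.val) h2
        rw [MulAut.conjNormal_apply] at h3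
        refine mem_centralizer_singleton_iff.2 ?_
        have h4 : ((n : N) : P) * x = x * ((n : N) : P) := by
          calc ((n : N) : P) * x = (x * ((n : N) : P) * x⁻¹) * x := by rw [← h3]
            _ = _ := by group
        first | exact h4 | exact h4.symm
      · intro a b h
        have h5 : ((a : N) : P) = ((b : N) : P) :=
          congrArg (fun w : (centralizer ({x} : Set P) ⊓ N : Subgroup P) => (w : P)) h
        exact Subtype.ext (Subtype.ext h5)
    have hran : Nat.card φ.range ≤ 2 := by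
      refine le_trans (Nat.card_le_card_of_injective (Subgroup.inclusion (?_ : φ.range ≤ φ.ker))
        (Subgroup.inclusion_injective _)) hker
      rintro _ ⟨n, rfl⟩
      change n * (MulAut.conjNormal x n)⁻¹ * (MulAut.conjNormal x (n * (MulAut.conjNormal x n)⁻¹))⁻¹ = 1
      apply Subtype.ext
      simp only [map_mul, map_inv, mul_inv_rev, inv_inv, coe_mul, coe_inv, MulAut.conjNormal_apply, coe_one]
      -- `x` acts as an involution
      have h1 : x * (x * (n : P) * x⁻¹) * x⁻¹ = n := by
        calc x * (x * (n : P) * x⁻¹) * x⁻¹ = (x * x) * n * (x * x)⁻¹ := by group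
          _ = n * (x * x) * (x * x)⁻¹ := by rw [hcomm _ hxx _ n.2]
          _ = n := by group
      rw [h1]
      have h2 := hel _ n.2
      have hm : x * (n : P) * x⁻¹ ∈ N := hN.conj_mem _ n.2 x
      calc (n : P) * (x * ((n : P)⁻¹ * x⁻¹)) * (n * (x * ((n : P)⁻¹ * x⁻¹)))
          = n * ((x * ↑n * x⁻¹)⁻¹ * n) * (x * ↑n * x⁻¹)⁻¹ := by group
        _ = n * (n * (x * ↑n * x⁻¹)⁻¹) * (x * ↑n * x⁻¹)⁻¹ := by
            rw [hcomm _ (N.inv_mem hm) _ n.2]
        _ = (n * n) * ((x * ↑n * x⁻¹) * (x * ↑n * x⁻¹))⁻¹ := by group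
        _ = 1 := by rw [h2, hel _ hm]; group
    have h1 : Nat.card N = Nat.card φ.ker * Nat.card φ.range := by
      rw [← φ.ker.card_mul_index, Subgroup.index_ker]
    rw [h1]
    calc _ ≤ 2 * 2 := Nat.mul_le_mul hker hran
      _ = 4 := by norm_num
  -- an element outside of `N`
  have hout : ∃ x : P, x ∉ N := by
    by_contra h
    push Not at h
    rw [(eq_top_iff' N).2 h, index_top] at hidx
    omega
  obtain ⟨x0, hx0⟩ := hout
  obtain ⟨j0, hj0, hj0'⟩ := exists_sq_mem hP N hx0
  have h4 := hle4 _ hj0 hj0'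
  by_contra hcon
  obtain ⟨k, hk⟩ := (hP.to_subgroup N).exists_card_eq
  have hk2 : k = 2 := by
    rw [hk] at h4 hcon
    have h5 : k ≤ 2 := by
      by_contra h
      have := Nat.pow_le_pow_right (n := 2) (by norm_num) (by omega : 3 ≤ k)
      omega
    have h6 : ¬ k ≤ 1 := fun h => hcon (by
      have := Nat.pow_le_pow_right (n := 2) (by norm_num) h
      omega)
    omega
  rw [hk2] at hk
  norm_num at hk
  -- a central element `z` and another element `n`
  have hNbot : N ≠ ⊥ := by
    rintro rfl
    rw [Subgroup.card_bot] at hk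
    omega
  obtain ⟨z, hzN, hz1, hz⟩ := H777.PGrp.inf_center_ne_bot hP hNbot hN
  obtain ⟨n, hnN, hn1, hnz⟩ : ∃ n ∈ N, n ≠ 1 ∧ n ≠ z := by
    by_contra h
    push Not at h
    have h1 : (N : Set P) ⊆ {1, z} := by
      intro n hn
      by_cases h2 : n = 1
      · exact Or.inl h2
      · exact Or.inr (h n hn h2)
    have h2 := Set.ncard_le_ncard h1 (Set.toFinite _)
    have h3 : ({1, z} : Set P).ncard ≤ 2 := by
      have := Set.ncard_insert_le (1 : P) {z}
      rw [Set.ncard_singleton] at this
      exact this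
    have h5 : (N : Set P).ncard = Nat.card N := rfl
    omega
  have hNeq : (N : Set P) = {1, z, n, n * z} := by
    symm
    refine Set.eq_of_subset_of_ncard_le ?_ ?_ (Set.toFinite _)
    · rintro y (rfl | rfl | rfl | rfl)
      · exact N.one_mem
      · exact hzN
      · exact hnN
      · exact N.mul_mem hnN hzN
    · have h5 : (N : Set P).ncard = 4 := hk
      rw [h5, Set.ncard_insert_of_notMem, Set.ncard_insert_of_notMem, Set.ncard_pair]
      · intro h
        exact hz1 (mul_eq_left.1 h.symm)
      · rintro (h | h)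
        · exact hnz h.symm
        · exact hn1 (mul_eq_right.1 h.symm)
      · rintro (h | h | h)
        · exact hz1 h.symm
        · exact hn1 h.symm
        · refine hnz ?_
          have h6 := eq_inv_of_mul_eq_one_left h.symm
          rw [h6, hinv z hzN]
  -- the centralizer of `n` is bigger than `N`
  obtain ⟨y, hyC, hyN⟩ : ∃ y : P, y * n = n * y ∧ y ∉ N := by
    by_contra h
    push Not at h
    have hkey : ∀ g : P, g ∉ N → g * n * g⁻¹ = n * z := by
      intro g hg
      have h1 : g * n * g⁻¹ ∈ (N : Set P) := hN.conj_mem n hnN g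
      rw [hNeq] at h1
      rcases h1 with h1 | h1 | h1 | h1
      · exfalso
        rw [mul_inv_eq_one] at h1
        exact hn1 (mul_eq_left.1 h1)
      · exfalso
        apply hnz
        rw [mul_inv_eq_iff_eq_mul, ← hz g] at h1
        exact mul_left_cancel h1
      · exfalso
        refine hg (h g ?_)
        rwa [mul_inv_eq_iff_eq_mul] at h1
      · exact h1
    have h2 : N.index ≤ 2 := by
      have h3 : ∀ g g' : P, g ∉ N → g' ∉ N → g⁻¹ * g' ∈ N := by
        intro g g' hg hg'
        refine h _ ?_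
        have h4 := (hkey g hg).trans (hkey g' hg').symm
        calc g⁻¹ * g' * n = g⁻¹ * (g' * n * g'⁻¹) * g' := by group
          _ = g⁻¹ * (g * n * g⁻¹) * g' := by rw [h4]
          _ = n * (g⁻¹ * g') := by group
      rw [Subgroup.index, ← Nat.card_fin 2]
      let f : P ⧸ N → Fin 2 := fun q => if q = (1 : P) then 0 else 1
      refine Nat.card_le_card_of_injective f ?_
      intro a b hab
      obtain ⟨g, rfl⟩ := QuotientGroup.mk_surjective a
      obtain ⟨g', rfl⟩ := QuotientGroup.mk_surjective b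
      simp only [f] at hab
      by_cases ha : ((g : P ⧸ N)) = ((1 : P) : P ⧸ N)
      · by_cases hb : ((g' : P ⧸ N)) = ((1 : P) : P ⧸ N)
        · rw [ha, hb]
        · rw [if_pos ha, if_neg hb] at hab
          exact absurd hab (by decide)
      · by_cases hb : ((g' : P ⧸ N)) = ((1 : P) : P ⧸ N)
        · rw [if_neg ha, if_pos hb] at hab
          exact absurd hab (by decide)
        · rw [QuotientGroup.eq]
          refine h3 g g' (fun h5 => ha ?_) (fun h5 => hb ?_)
          · exact (QuotientGroup.eq_one_iff g).2 h5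
          · exact (QuotientGroup.eq_one_iff g').2 h5
    omega
  obtain ⟨j, hj, hj'⟩ := exists_sq_mem hP N hyN
  have h5 := hD _ hj hj'
  have h6 : (({1, z, n} : Set P)).ncard = 3 := by
    rw [Set.ncard_insert_of_notMem, Set.ncard_pair]
    · exact hnz.symm
    · rintro (h | h)
      · exact hz1 h.symm
      · exact hn1 h.symm
  have h7 : ({1, z, n} : Set P) ⊆ (centralizer ({y ^ 2 ^ j} : Set P) ⊓ N : Subgroup P) := by
    have hcm : ∀ w : P, Commute y w → w ∈ centralizer ({y ^ 2 ^ j} : Set P) := by
      intro w hw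
      refine mem_centralizer_singleton_iff.2 ?_
      have h8 : Commute (y ^ 2 ^ j) w := hw.pow_left _
      first | exact h8 | exact h8.symm
    rintro w (rfl | rfl | rfl)
    · exact Subgroup.one_mem _
    · exact ⟨hcm _ (hz y), hzN⟩
    · exact ⟨hcm _ hyC, hnN⟩
  have h8 := Set.ncard_le_ncard h7 (Set.toFinite _)
  have h9 : ((centralizer ({y ^ 2 ^ j} : Set P) ⊓ N : Subgroup P) : Set P).ncard =
      Nat.card (centralizer ({y ^ 2 ^ j} : Set P) ⊓ N : Subgroup P) := rfl
  omega

end Cfsg.Agent.H766.K5
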